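import Mathlib.RingTheory.Spectrum.Prime.Chevalley
import Mathlib.RingTheory.Spectrum.Prime.ConstructibleSet
import Mathlib.RingTheory.Nullstellensatz
import Mathlib.Analysis.Complex.Polynomial.Basic
import Mathlib.RingTheory.FiniteType
import Mathlib.RingTheory.FinitePresentation
import Mathlib.RingTheory.Localization.InvSubmonoid

/-!
# Complex points lift along injective maps of domains of finite type, over a dense open subset
(`[FAM]`, piece (LIFT))
-/

set_option autoImplicit false

namespace Groth.Agent.An.H170.Lift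

universe u v

/-- A nonzero algebra of finite type over an algebraically closed field has a rational point. -/
theorem exists_point {k : Type u} {B : Type v} [Field k] [IsAlgClosed k] [CommRing B] [Nontrivial B] [Algebra k B]
    [Algebra.FiniteType k B] : Nonempty (B →ₐ[k] k) := by
  obtain ⟨m, hm⟩ := Ideal.exists_maximal B
  let _ : Field (B ⧸ m) := Ideal.Quotient.field m
  have h1 : Algebra.FiniteType k (B ⧸ m) := inferInstance
  have h2 : Module.Finite k (B ⧸ m) := finite_of_finite_type_of_isJacobsonRing k (B ⧸ m)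
  have h3 : Function.Bijective (algebraMap k (B ⧸ m)) := IsAlgClosed.algebraMap_bijective_of_isIntegral
  let e : k ≃ₐ[k] (B ⧸ m) := AlgEquiv.ofBijective (Algebra.ofId k (B ⧸ m)) h3
  exact ⟨(e.symm : (B ⧸ m) →ₐ[k] k).comp (Ideal.Quotient.mkₐ k m)⟩

/-- The image of a nonempty principal open set under a dominant map of finite type of integral affine schemes (with
Noetherian target) contains a nonempty principal open set. -/
theorem exists_basicOpen_subset {R : Type u} {A : Type v} [CommRing R] [IsDomain R] [IsNoetherianRing R] [CommRing A]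
    [IsDomain A] (ψ : R →+* A) (hft : ψ.FiniteType) (hψ : Function.Injective ψ) (f : A) (hf : f ≠ 0) :
    ∃ w : R, w ≠ 0 ∧ ∀ p : PrimeSpectrum R, w ∉ p.asIdeal →
      ∃ q : PrimeSpectrum A, f ∉ q.asIdeal ∧ PrimeSpectrum.comap ψ q = p := by
  have hfp : ψ.FinitePresentation := RingHom.FinitePresentation.of_finiteType.1 hft
  have hc := PrimeSpectrum.isConstructible_comap_image hfp
    (PrimeSpectrum.isConstructible_basicOpen (f := f))
  obtain ⟨S, hS⟩ := PrimeSpectrum.exists_constructibleSetData_iff.2 hc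
  have hbot : (⊥ : PrimeSpectrum R) ∈ S.toSet := by
    rw [hS]
    refine ⟨⊥, ?_, ?_⟩
    · change f ∉ (⊥ : Ideal A)
      simpa using hf
    · ext x
      change ψ x ∈ (⊥ : Ideal A) ↔ x ∈ (⊥ : Ideal R)
      simp only [Ideal.mem_bot]
      exact map_eq_zero_iff ψ hψ
  rw [PrimeSpectrum.ConstructibleSetData.toSet] at hbot
  simp only [Set.mem_iUnion] at hbot
  obtain ⟨C, hCS, hC1, hC2⟩ := hbot
  have hg : ∀ i, C.g i = 0 := by
    intro i
    have := hC1 (Set.mem_range_self i)
    simpa using this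
  have hfC : C.f ≠ 0 := by
    intro h
    apply hC2
    rw [h]
    intro x hx
    rw [Set.mem_singleton_iff] at hx
    rw [hx]
    exact Ideal.zero_mem _
  refine ⟨C.f, hfC, fun p hp => ?_⟩
  have hpS : p ∈ S.toSet := by
    rw [PrimeSpectrum.ConstructibleSetData.toSet]
    simp only [Set.mem_iUnion]
    refine ⟨C, hCS, ?_, ?_⟩
    · rintro _ ⟨i, rfl⟩
      rw [hg i]
      exact Ideal.zero_mem _
    · intro h
      exact hp (h (Set.mem_singleton _))
  rw [hS] at hpS
  obtain ⟨q, hq, hqp⟩ := hpS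
  exact ⟨q, hq, hqp⟩

/-- (LIFT), over any algebraically closed field. -/
theorem exists_lift_point' {k : Type*} [Field k] [IsAlgClosed k] (R : Type u) (A : Type v) [CommRing R] [IsDomain R]
    [Algebra k R] [Algebra.FiniteType k R] [CommRing A] [IsDomain A] [Algebra k A] [Algebra.FiniteType k A]
    (ψ : R →ₐ[k] A) (hψ : Function.Injective ψ) (f : A) (hf : f ≠ 0) :
    ∃ w : R, w ≠ 0 ∧ ∀ s : R →ₐ[k] k, s w ≠ 0 → ∃ t : A →ₐ[k] k, t.comp ψ = s ∧ t f ≠ 0 := by
  have hN : IsNoetherianRing R := Algebra.FiniteType.isNoetherianRing k R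
  have hft : (ψ : R →+* A).FiniteType := by
    apply RingHom.FiniteType.of_comp_finiteType (f := algebraMap k R)
    rw [AlgHom.comp_algebraMap]
    exact (RingHom.finiteType_algebraMap).2 inferInstance
  obtain ⟨w, hw, hlift⟩ := exists_basicOpen_subset (ψ : R →+* A) hft hψ f hf
  refine ⟨w, hw, fun s hs => ?_⟩
  have hsp : (RingHom.ker s).IsPrime := RingHom.ker_isPrime s
  obtain ⟨q, hfq, hq⟩ := hlift ⟨RingHom.ker s, hsp⟩ hs
  -- a point of `(A/q)[1/f]`
  let B := A ⧸ q.asIdeal
  let fB : B := Ideal.Quotient.mk q.asIdeal f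
  have hfB : fB ≠ 0 := fun h => hfq (Ideal.Quotient.eq_zero_iff_mem.1 h)
  let C := Localization.Away fB
  have hBC : Function.Injective (algebraMap B C) :=
    IsLocalization.injective C (powers_le_nonZeroDivisors_of_noZeroDivisors hfB)
  have hC : Nontrivial C := hBC.nontrivial
  have hBCft : Algebra.FiniteType B C := IsLocalization.finiteType_of_monoid_fg (Submonoid.powers fB) C
  have hCft : Algebra.FiniteType k C := Algebra.FiniteType.trans (S := B) inferInstance hBCft
  obtain ⟨c⟩ := exists_point (k := k) (B := C)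
  let t : A →ₐ[k] k := (c.comp (IsScalarTower.toAlgHom k B C)).comp (Ideal.Quotient.mkₐ k q.asIdeal)
  have htf : t f ≠ 0 := by
    have h1 : IsUnit (algebraMap B C fB) := IsLocalization.Away.algebraMap_isUnit fB
    exact (h1.map c).ne_zero
  refine ⟨t, ?_, htf⟩
  ext r
  have h2 : r - algebraMap k R (s r) ∈ RingHom.ker s := by
    rw [RingHom.mem_ker, map_sub, AlgHom.commutes, Algebra.algebraMap_self, RingHom.id_apply, sub_self]
  have h3 : ψ (r - algebraMap k R (s r)) ∈ q.asIdeal := by
    have h4 : (PrimeSpectrum.comap (ψ : R →+* A) q).asIdeal = RingHom.ker s := by rw [hq]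
    rw [← h4] at h2
    exact h2
  have h5 : t (ψ (r - algebraMap k R (s r))) = 0 := by
    change c (algebraMap B C (Ideal.Quotient.mk q.asIdeal (ψ (r - algebraMap k R (s r))))) = 0
    rw [Ideal.Quotient.eq_zero_iff_mem.2 h3, map_zero, map_zero]
  rw [map_sub, map_sub, AlgHom.commutes, AlgHom.commutes, sub_eq_zero] at h5
  exact h5

/-- (LIFT). -/
theorem exists_lift_point (R A : Type) [CommRing R] [IsDomain R] [Algebra ℂ R]
    [Algebra.FiniteType ℂ R] [CommRing A] [IsDomain A] [Algebra ℂ A] [Algebra.FiniteType ℂ A]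
    (ψ : R →ₐ[ℂ] A) (hψ : Function.Injective ψ) (f : A) (hf : f ≠ 0) :
    ∃ w : R, w ≠ 0 ∧ ∀ s : R →ₐ[ℂ] ℂ, s w ≠ 0 → ∃ t : A →ₐ[ℂ] ℂ, t.comp ψ = s ∧ t f ≠ 0 :=
  exists_lift_point' R A ψ hψ f hf

end Groth.Agent.An.H170.Lift
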