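import Groth.Agent.An.H170.Spread
import Groth.Agent.An.H170.Lift
import Groth.Agent.An.H869.LocalRoots
import Groth.Agent.An.H869.Interp
import Mathlib.RingTheory.Polynomial.RationalRoot
import Mathlib.RingTheory.Polynomial.UniqueFactorization
import Mathlib.RingTheory.Flat.Basic
import Mathlib.RingTheory.TensorProduct.Finite

/-!
# (MULTI): multisections of a dominant affine variety over affine space
-/

set_option autoImplicit false

namespace Groth.Agent.An.H170.Multi

open MvPolynomial Groth.Agent.An.H869.LocalRoots TensorProduct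

/-- A dominant algebra of finite type over a domain `S` has a point in a finite extension of the fraction field. -/
theorem exists_residue (S A : Type) [CommRing S] [IsDomain S] [CommRing A] [Nontrivial A] [Algebra S A]
    [Algebra.FiniteType S A] (hSA : Function.Injective (algebraMap S A)) :
    ∃ (L : Type) (_ : Field L) (_ : Algebra S L) (_ : Algebra (FractionRing S) L)
      (_ : IsScalarTower S (FractionRing S) L) (_ : FiniteDimensional (FractionRing S) L), Nonempty (A →ₐ[S] L) := by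
  let K := FractionRing S
  let AK := K ⊗[S] A
  have hnt : Nontrivial AK := by
    have h1 : Function.Injective ((Algebra.linearMap S A).lTensor K) :=
      Module.Flat.lTensor_preserves_injective_linearMap (M := K) (Algebra.linearMap S A) hSA
    have h2 : Nontrivial (K ⊗[S] S) := (TensorProduct.rid S K).toEquiv.nontrivial
    exact h1.nontrivial
  obtain ⟨m, hm⟩ := Ideal.exists_maximal AK
  let _ : Field (AK ⧸ m) := Ideal.Quotient.field m
  have h1 : Algebra.FiniteType K AK := Algebra.FiniteType.baseChange K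
  have h2 : Algebra.FiniteType K (AK ⧸ m) := inferInstance
  have h3 : Module.Finite K (AK ⧸ m) := finite_of_finite_type_of_isJacobsonRing K (AK ⧸ m)
  exact ⟨AK ⧸ m, inferInstance, inferInstance, inferInstance, inferInstance, h3,
    ⟨(Ideal.Quotient.mkₐ S m).comp Algebra.TensorProduct.includeRight⟩⟩

section

variable {n : ℕ} {L : Type} [Field L] [Algebra (MvPolynomial (Fin n) ℂ) L]
variable (θ : L) (f : Polynomial (MvPolynomial (Fin n) ℂ))
  (hf : ∀ p : Polynomial (MvPolynomial (Fin n) ℂ), Polynomial.aeval θ p = 0 → f ∣ p)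
variable (g : MvPolynomial (Fin n) ℂ)

lemma F_add (P Q : Polynomial (MvPolynomial (Fin n) ℂ)) (q : (Fin n → ℂ) × ℂ) :
    F (P + Q) q = F P q + F Q q := by
  simp [F]

lemma F_mul (P Q : Polynomial (MvPolynomial (Fin n) ℂ)) (q : (Fin n → ℂ) × ℂ) :
    F (P * Q) q = F P q * F Q q := by
  simp [F]

lemma F_C (D : MvPolynomial (Fin n) ℂ) (q : (Fin n → ℂ) × ℂ) :
    F (Polynomial.C D) q = eval q.1 D := by
  simp [F]

include hf in
lemma F_congr (q : (Fin n → ℂ) × ℂ) (hq : F f q = 0) {p p' : Polynomial (MvPolynomial (Fin n) ℂ)}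
    (hpp : Polynomial.aeval θ p = Polynomial.aeval θ p') : F p q = F p' q := by
  obtain ⟨r, hr⟩ : f ∣ p - p' := hf _ (by rw [map_sub, hpp, sub_self])
  have h1 : F (p - p' + p') q = F p' q := by
    rw [F_add, hr, F_mul, hq, zero_mul, zero_add]
  rwa [sub_add_cancel] at h1

variable {A : Type} [CommRing A] [Algebra (MvPolynomial (Fin n) ℂ) A] (ρ : A →ₐ[MvPolynomial (Fin n) ℂ] L)
variable (h : A → Polynomial (MvPolynomial (Fin n) ℂ)) (e : A → ℕ)
  (hh : ∀ a, algebraMap (MvPolynomial (Fin n) ℂ) L g ^ e a * ρ a = Polynomial.aeval θ (h a))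

include hf hh in
lemma F_eq_of (hθ : algebraMap (MvPolynomial (Fin n) ℂ) L g ≠ 0) (q : (Fin n → ℂ) × ℂ) (hq : F f q = 0)
    (hg : eval q.1 g ≠ 0) (a : A) (k : ℕ) (p : Polynomial (MvPolynomial (Fin n) ℂ))
    (hp : algebraMap (MvPolynomial (Fin n) ℂ) L g ^ k * ρ a = Polynomial.aeval θ p) :
    F (h a) q / eval q.1 g ^ e a = F p q / eval q.1 g ^ k := by
  have h1 : F (Polynomial.C (g ^ k) * h a) q = F (Polynomial.C (g ^ e a) * p) q := by
    apply F_congr θ f hf q hq
    rw [map_mul, map_mul, ← hh, ← hp, Polynomial.aeval_C, Polynomial.aeval_C, map_pow, map_pow]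
    ring
  rw [F_mul, F_mul, F_C, F_C, map_pow, map_pow] at h1
  have h2 : eval q.1 g ^ k ≠ 0 := pow_ne_zero _ hg
  have h3 : eval q.1 g ^ e a ≠ 0 := pow_ne_zero _ hg
  field_simp
  linear_combination h1

/-- The point of `A` over `q`. -/
noncomputable def point [Algebra ℂ A] [IsScalarTower ℂ (MvPolynomial (Fin n) ℂ) A]
    (hθ : algebraMap (MvPolynomial (Fin n) ℂ) L g ≠ 0) (q : (Fin n → ℂ) × ℂ)
    (hq : F f q = 0) (hg : eval q.1 g ≠ 0) : A →ₐ[ℂ] ℂ where
  toFun a := F (h a) q / eval q.1 g ^ e a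
  map_one' := by
    rw [F_eq_of θ f hf g ρ h e hh hθ q hq hg 1 0 (Polynomial.C 1) (by simp), F_C]
    simp
  map_mul' a b := by
    have hmul : algebraMap (MvPolynomial (Fin n) ℂ) L g ^ (e a + e b) * ρ (a * b) =
        Polynomial.aeval θ (h a * h b) := by
      rw [map_mul, map_mul, ← hh, ← hh]
      ring
    rw [F_eq_of θ f hf g ρ h e hh hθ q hq hg (a * b) (e a + e b) (h a * h b) hmul, F_mul, pow_add, mul_div_mul_comm]
  map_zero' := by
    rw [F_eq_of θ f hf g ρ h e hh hθ q hq hg 0 0 (Polynomial.C 0) (by simp), F_C]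
    simp
  map_add' a b := by
    have hadd : algebraMap (MvPolynomial (Fin n) ℂ) L g ^ (e a + e b) * ρ (a + b) =
        Polynomial.aeval θ (Polynomial.C (g ^ e b) * h a + Polynomial.C (g ^ e a) * h b) := by
      rw [map_add, map_add, map_mul, map_mul, ← hh, ← hh, Polynomial.aeval_C, Polynomial.aeval_C, map_pow, map_pow]
      ring
    rw [F_eq_of θ f hf g ρ h e hh hθ q hq hg (a + b) (e a + e b) _ hadd, F_add, F_mul, F_mul, F_C, F_C, map_pow,
      map_pow]
    have h2 : eval q.1 g ^ e a ≠ 0 := pow_ne_zero _ hg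
    have h3 : eval q.1 g ^ e b ≠ 0 := pow_ne_zero _ hg
    field_simp
    ring
  commutes' c := by
    have hc : algebraMap (MvPolynomial (Fin n) ℂ) L g ^ 0 * ρ (algebraMap ℂ A c) =
        Polynomial.aeval θ (Polynomial.C (C c : MvPolynomial (Fin n) ℂ)) := by
      rw [pow_zero, one_mul, Polynomial.aeval_C, IsScalarTower.algebraMap_apply ℂ (MvPolynomial (Fin n) ℂ) A,
        AlgHom.commutes]
      rfl
    rw [F_eq_of θ f hf g ρ h e hh hθ q hq hg _ 0 _ hc, F_C]
    simp

lemma point_apply [Algebra ℂ A] [IsScalarTower ℂ (MvPolynomial (Fin n) ℂ) A]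
    (hθ : algebraMap (MvPolynomial (Fin n) ℂ) L g ≠ 0) (q : (Fin n → ℂ) × ℂ)
    (hq : F f q = 0) (hg : eval q.1 g ≠ 0) (a : A) :
    point θ f hf g ρ h e hh hθ q hq hg a = F (h a) q / eval q.1 g ^ e a := rfl

end

/-- (MULTI). -/
theorem exists_multisection (n : ℕ) (A : Type) [CommRing A] [IsDomain A] [Algebra ℂ A]
    [Algebra.FiniteType ℂ A] (φ : MvPolynomial (Fin n) ℂ →ₐ[ℂ] A) (hφ : Function.Injective φ) :
    ∃ (q₂ : MvPolynomial (Fin n) ℂ) (μ : Polynomial (MvPolynomial (Fin n) ℂ)),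
      q₂ ≠ 0 ∧ μ.Monic ∧ μ.natDegree ≠ 0 ∧
      (∀ b : Fin n → ℂ, eval b q₂ ≠ 0 → (μ.map (eval b)).Separable) ∧
      ∃ t : (Fin n → ℂ) × ℂ → (A →ₐ[ℂ] ℂ),
        (∀ y, eval y.1 q₂ ≠ 0 → F μ y = 0 → ∀ h, t y (φ h) = eval y.1 h) ∧
        ∀ a : A, ∃ (g : Polynomial (MvPolynomial (Fin n) ℂ)) (e : ℕ),
          ∀ y, eval y.1 q₂ ≠ 0 → F μ y = 0 → t y a * eval y.1 q₂ ^ e = F g y := by
  classical
  let S := MvPolynomial (Fin n) ℂ
  algebraize [φ.toRingHom]
  have htow : IsScalarTower ℂ (MvPolynomial (Fin n) ℂ) A := IsScalarTower.of_algebraMap_eq' (by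
    ext c
    exact (φ.commutes c).symm)
  have hft : Algebra.FiniteType (MvPolynomial (Fin n) ℂ) A := Algebra.FiniteType.of_restrictScalars_finiteType ℂ _ _
  obtain ⟨L, _, _, _, _, _, ⟨ρ⟩⟩ := exists_residue (MvPolynomial (Fin n) ℂ) A hφ
  obtain ⟨G, hG⟩ := (inferInstance : Algebra.FiniteType ℂ A).out
  obtain ⟨θ, f, g, hfm, hfθ, hfp, hf, hg0, ⟨u, v, huv⟩, hG2⟩ :=
    Spread.exists_spread (A := MvPolynomial (Fin n) ℂ) (FractionRing (MvPolynomial (Fin n) ℂ)) L (G.image ρ)
  have hSL : Function.Injective (algebraMap (MvPolynomial (Fin n) ℂ) L) := by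
    rw [IsScalarTower.algebraMap_eq (MvPolynomial (Fin n) ℂ) (FractionRing (MvPolynomial (Fin n) ℂ)) L]
    exact (algebraMap (FractionRing (MvPolynomial (Fin n) ℂ)) L).injective.comp (IsFractionRing.injective _ _)
  have hgL : algebraMap (MvPolynomial (Fin n) ℂ) L g ≠ 0 := by
    intro h
    exact hg0 (hSL (by rw [h, map_zero]))
  have hall : ∀ a : A, ∃ (e : ℕ) (h : Polynomial (MvPolynomial (Fin n) ℂ)),
      algebraMap (MvPolynomial (Fin n) ℂ) L g ^ e * ρ a = Polynomial.aeval θ h := by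
    intro a
    have ha : a ∈ Algebra.adjoin ℂ (G : Set A) := by rw [hG]; trivial
    induction ha using Algebra.adjoin_induction with
    | mem x hx =>
      obtain ⟨h, hh⟩ := hG2 (ρ x) (Finset.mem_image_of_mem _ hx)
      exact ⟨1, h, by rw [pow_one, hh]⟩
    | algebraMap c =>
      refine ⟨0, Polynomial.C (C c), ?_⟩
      rw [pow_zero, one_mul, Polynomial.aeval_C, IsScalarTower.algebraMap_apply ℂ (MvPolynomial (Fin n) ℂ) A,
        AlgHom.commutes]
      rfl
    | add x y _ _ hx hy =>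
      obtain ⟨e1, h1, hh1⟩ := hx
      obtain ⟨e2, h2, hh2⟩ := hy
      refine ⟨e1 + e2, Polynomial.C (g ^ e2) * h1 + Polynomial.C (g ^ e1) * h2, ?_⟩
      rw [map_add, map_add, map_mul, map_mul, ← hh1, ← hh2, Polynomial.aeval_C, Polynomial.aeval_C, map_pow, map_pow]
      ring
    | mul x y _ _ hx hy =>
      obtain ⟨e1, h1, hh1⟩ := hx
      obtain ⟨e2, h2, hh2⟩ := hy
      refine ⟨e1 + e2, h1 * h2, ?_⟩
      rw [map_mul, map_mul, ← hh1, ← hh2]
      ring
  choose e h hh using hall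
  obtain ⟨t₀⟩ := Lift.exists_point (k := ℂ) (B := A)
  let t : (Fin n → ℂ) × ℂ → (A →ₐ[ℂ] ℂ) := fun y =>
    if hy : F f y = 0 ∧ eval y.1 g ≠ 0 then point θ f hf g ρ h e hh hgL y hy.1 hy.2 else t₀
  have ht : ∀ y (h1 : eval y.1 g ≠ 0) (h2 : F f y = 0) (a : A), t y a = F (h a) y / eval y.1 g ^ e a := by
    intro y h1 h2 a
    have h3 : t y = point θ f hf g ρ h e hh hgL y h2 h1 := dif_pos ⟨h2, h1⟩
    rw [h3, point_apply]
  refine ⟨g, f, hg0, hfm, ?_, ?_, t, ?_, ?_⟩
  · intro hdeg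
    have h1 : f = 1 := Polynomial.eq_one_of_monic_natDegree_zero hfm hdeg
    exact hfp.not_isUnit (h1 ▸ isUnit_one)
  · intro b hb
    exact H869.Interp.separable_of_bezout huv b hb
  · intro y h1 h2 p
    rw [ht y h1 h2]
    have hc : algebraMap (MvPolynomial (Fin n) ℂ) L g ^ 0 * ρ (φ p) =
        Polynomial.aeval θ (Polynomial.C p) := by
      rw [pow_zero, one_mul, Polynomial.aeval_C]
      exact ρ.commutes p
    rw [F_eq_of θ f hf g ρ h e hh hgL y h2 h1 _ 0 _ hc, F_C]
    simp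
  · intro a
    refine ⟨h a, e a, fun y h1 h2 => ?_⟩
    rw [ht y h1 h2]
    exact div_mul_cancel₀ _ (pow_ne_zero _ h1)

end Groth.Agent.An.H170.Multi
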