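import Mathlib.RingTheory.Ideal.MinimalPrime.Noetherian
import Mathlib.RingTheory.Spectrum.Prime.Basic

/-!
# A prime through a set of primes dominating a base (`[FAM]`, piece (PRIME))

`R` Noetherian, `A → R` with `A` a domain, `G` a set of primes of `R` whose image is "Zariski dense" in `Spec A`.
Then there is a prime `P` of `R` over the generic point of `A` such that `G ∩ V(P)` is Zariski dense in `V(P)`.
-/

set_option autoImplicit false

namespace Groth.Agent.An.H170.Prime

universe u v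

open Ideal

variable {A : Type u} {R : Type v} [CommRing A] [IsDomain A] [CommRing R] [IsNoetherianRing R] [Algebra A R]

/-- (PRIME), general form. -/
theorem exists_prime (G : Set (PrimeSpectrum R))
    (hG : ∀ a : A, (∀ x ∈ G, algebraMap A R a ∈ x.asIdeal) → a = 0) :
    ∃ P : Ideal R, P.IsPrime ∧ P.comap (algebraMap A R) = ⊥ ∧
      ∀ g : R, (∀ x ∈ G, P ≤ x.asIdeal → g ∈ x.asIdeal) → g ∈ P := by
  classical
  set I : Ideal R := ⨅ x ∈ G, x.asIdeal with hI
  have memI : ∀ r : R, r ∈ I ↔ ∀ x ∈ G, r ∈ x.asIdeal := by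
    intro r
    simp [hI]
  have hrad : I.IsRadical := by
    intro r hr
    obtain ⟨n, hn⟩ := hr
    rw [memI] at hn ⊢
    intro x hx
    exact x.isPrime.mem_of_pow_mem n (hn x hx)
  have hfin : (I.minimalPrimes).Finite := Ideal.finite_minimalPrimes_of_isNoetherianRing R I
  have hinf : sInf I.minimalPrimes = I := by
    rw [Ideal.sInf_minimalPrimes, hrad.radical]
  -- some minimal prime is over the generic point
  have key : ∃ P ∈ I.minimalPrimes, P.comap (algebraMap A R) = ⊥ := by
    by_contra hcon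
    push Not at hcon
    have h1 : ∀ P ∈ I.minimalPrimes, ∃ a : A, a ≠ 0 ∧ algebraMap A R a ∈ P := by
      intro P hP
      obtain ⟨a, ha, ha0⟩ := Submodule.exists_mem_ne_zero_of_ne_bot (hcon P hP)
      exact ⟨a, ha0, ha⟩
    choose! a ha0 ha using h1
    have h2 : ∏ P ∈ hfin.toFinset, a P = 0 := by
      apply hG
      intro x hx
      have h3 : algebraMap A R (∏ P ∈ hfin.toFinset, a P) ∈ I := by
        have h30 : ∀ P ∈ I.minimalPrimes, algebraMap A R (∏ P ∈ hfin.toFinset, a P) ∈ P := by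
          intro P hP
          rw [map_prod, ← Finset.mul_prod_erase _ _ (hfin.mem_toFinset.2 hP)]
          exact Ideal.mul_mem_right _ _ (ha P hP)
        have h31 : algebraMap A R (∏ P ∈ hfin.toFinset, a P) ∈ sInf I.minimalPrimes :=
          Ideal.mem_sInf.2 fun {P} hP => h30 P hP
        exact hinf.le h31
      exact (memI _).1 h3 x hx
    rw [Finset.prod_eq_zero_iff] at h2
    obtain ⟨P, hP, hP0⟩ := h2
    exact ha0 P (hfin.mem_toFinset.1 hP) hP0
  obtain ⟨P, hP, hPA⟩ := key
  have hPp : P.IsPrime := hP.1.1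
  refine ⟨P, hPp, hPA, fun g hg => ?_⟩
  -- an element in all the other minimal primes but not in `P`
  have h4 : ∃ h : R, h ∉ P ∧ ∀ Q ∈ I.minimalPrimes, Q ≠ P → h ∈ Q := by
    have h5 : ∀ Q ∈ I.minimalPrimes, Q ≠ P → ∃ b : R, b ∈ Q ∧ b ∉ P := by
      intro Q hQ hne
      by_contra hcon
      push Not at hcon
      exact hne (le_antisymm hcon (hP.2 hQ.1 hcon))
    choose! b hb hbP using h5
    refine ⟨∏ Q ∈ hfin.toFinset.erase P, b Q, ?_, ?_⟩
    · intro hmem
      rw [hPp.prod_mem_iff] at hmem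
      obtain ⟨Q, hQ, hQb⟩ := hmem
      rw [Finset.mem_erase, hfin.mem_toFinset] at hQ
      exact hbP Q hQ.2 hQ.1 hQb
    · intro Q hQ hne
      rw [← Finset.mul_prod_erase _ _ (Finset.mem_erase.2 ⟨hne, hfin.mem_toFinset.2 hQ⟩)]
      exact Ideal.mul_mem_right _ _ (hb Q hQ hne)
  obtain ⟨h, hhP, hh⟩ := h4
  have h6 : g * h ∈ I := by
    rw [memI]
    intro x hx
    by_cases hPx : P ≤ x.asIdeal
    · exact Ideal.mul_mem_right _ _ (hg x hx hPx)
    · -- `x ⊇ I`, so `x` contains a minimal prime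
      have h7 : I ≤ x.asIdeal := fun r hr => (memI r).1 hr x hx
      obtain ⟨Q, hQ, hQx⟩ := Ideal.exists_minimalPrimes_le h7
      have hne : Q ≠ P := by
        rintro rfl
        exact hPx hQx
      exact Ideal.mul_mem_left _ _ (hQx (hh Q hQ hne))
  have h8 : g * h ∈ P := hP.1.2 h6
  exact (hPp.mem_or_mem h8).resolve_right hhP

end Groth.Agent.An.H170.Prime
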