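import Groth.Agent.An.H170.Prime
import Groth.Agent.An.H869.LocalRoots
import Mathlib.RingTheory.FiniteType
import Mathlib.RingTheory.Polynomial.Basic

/-!
# (PRIME), in coordinates
-/

set_option autoImplicit false

namespace Groth.Agent.An.H170.PrimePts

open MvPolynomial Groth.Agent.An.H869.LocalRoots

theorem exists_prime (n M : ℕ) (G : Set ((Fin n → ℂ) × (Fin M → ℂ)))
    (hG : ∀ h : MvPolynomial (Fin n) ℂ, (∀ x ∈ G, eval x.1 h = 0) → h = 0) :
    ∃ I : Ideal (MvPolynomial (Fin n ⊕ Fin M) ℂ), I.IsPrime ∧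
      (∀ h : MvPolynomial (Fin n) ℂ, rename Sum.inl h ∈ I → h = 0) ∧
      ∀ h : MvPolynomial (Fin n ⊕ Fin M) ℂ,
        (∀ x ∈ G, (∀ g ∈ I, eval (Sum.elim x.1 x.2) g = 0) → eval (Sum.elim x.1 x.2) h = 0) →
          h ∈ I := by
  let R := MvPolynomial (Fin n ⊕ Fin M) ℂ
  let _ : Algebra (MvPolynomial (Fin n) ℂ) R :=
    (rename Sum.inl : MvPolynomial (Fin n) ℂ →ₐ[ℂ] R).toRingHom.toAlgebra
  let pt : (Fin n → ℂ) × (Fin M → ℂ) → PrimeSpectrum R := fun x =>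
    ⟨RingHom.ker (eval (Sum.elim x.1 x.2) : R →+* ℂ), RingHom.ker_isPrime _⟩
  have hpt : ∀ (x : (Fin n → ℂ) × (Fin M → ℂ)) (g : R), g ∈ (pt x).asIdeal ↔ eval (Sum.elim x.1 x.2) g = 0 :=
    fun x g => RingHom.mem_ker
  obtain ⟨P, hPp, hPA, hPG⟩ := Prime.exists_prime (A := MvPolynomial (Fin n) ℂ) (R := R) (pt '' G) (by
    intro a ha
    refine hG a fun x hx => ?_
    have h1 := ha (pt x) ⟨x, hx, rfl⟩
    rw [hpt] at h1
    have h2 : eval (Sum.elim x.1 x.2) (rename Sum.inl a : R) = eval x.1 a := by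
      rw [eval_rename, Sum.elim_comp_inl]
    rw [← h2]
    exact h1)
  refine ⟨P, hPp, fun h hh => ?_, fun h hh => ?_⟩
  · have h1 : h ∈ P.comap (algebraMap (MvPolynomial (Fin n) ℂ) R) := hh
    rw [hPA] at h1
    exact (Submodule.mem_bot _).1 h1
  · apply hPG
    rintro _ ⟨x, hx, rfl⟩ hle
    rw [hpt]
    exact hh x hx fun g hg => (hpt x g).1 (hle hg)

end Groth.Agent.An.H170.PrimePts
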