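import Mathlib.FieldTheory.IsAlgClosed.AlgebraicClosure
import Mathlib.Analysis.Complex.Polynomial.Basic
import Mathlib.RingTheory.FiniteType
import Mathlib.RingTheory.Localization.FractionRing
import Mathlib.RingTheory.Algebraic.Integral

/-!
# (SPLIT): a polynomial over a domain of finite type splits with unit differences of roots, after an injective
extension of finite type
-/

set_option autoImplicit false

namespace Groth.Agent.An.H170.Split

open Polynomial

/-- (SPLIT). -/
theorem exists_split (R : Type) [CommRing R] [IsDomain R] [Algebra ℂ R] [Algebra.FiniteType ℂ R]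
    (Q : Polynomial R) (z₀ : ℂ) (hQ : Q.eval (algebraMap ℂ R z₀) ≠ 0) :
    ∃ (A : Type) (_ : CommRing A) (_ : IsDomain A) (_ : Algebra ℂ A) (_ : Algebra.FiniteType ℂ A)
      (ψ : R →ₐ[ℂ] A) (_ : Function.Injective ψ) (r : ℕ) (a : Fin r → A),
      (∀ i j, i ≠ j → IsUnit (a i - a j)) ∧ (∀ i, IsUnit (algebraMap ℂ A z₀ - a i)) ∧
      ∀ (t : A →ₐ[ℂ] ℂ) (z : ℂ), (Q.map ((t.comp ψ : R →ₐ[ℂ] ℂ) : R →+* ℂ)).eval z = 0 →
        ∃ i, z = t (a i) := by
  classical
  let K := FractionRing R
  let L := AlgebraicClosure K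
  have hRL : Function.Injective (algebraMap R L) := by
    rw [IsScalarTower.algebraMap_eq R K L]
    exact (algebraMap K L).injective.comp (IsFractionRing.injective R K)
  have htow : IsScalarTower ℂ R L := by
    refine IsScalarTower.of_algebraMap_eq fun c => ?_
    rw [IsScalarTower.algebraMap_apply R K L, ← IsScalarTower.algebraMap_apply ℂ R K,
      ← IsScalarTower.algebraMap_apply ℂ K L]
  let QL : Polynomial L := Q.map (algebraMap R L)
  have hQ0 : Q ≠ 0 := by
    rintro rfl
    simp at hQ
  have hQL0 : QL ≠ 0 := (Polynomial.map_ne_zero_iff hRL).2 hQ0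
  let s : Finset L := QL.roots.toFinset
  let cL : L := algebraMap R L Q.leadingCoeff
  have hcL : cL ≠ 0 := by
    intro h
    exact (leadingCoeff_ne_zero.2 hQ0) (hRL (by rw [map_zero]; exact h))
  let T : Finset L := insert cL⁻¹ (s ∪ ((s ×ˢ s).image (fun x : L × L => (x.1 - x.2)⁻¹) ∪
    s.image fun x => (algebraMap ℂ L z₀ - x)⁻¹))
  let A : Subalgebra R L := Algebra.adjoin R (T : Set L)
  have hTA : ∀ x ∈ T, x ∈ A := fun x hx => Algebra.subset_adjoin hx
  have hcA : cL⁻¹ ∈ A := hTA _ (Finset.mem_insert_self _ _)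
  have hsA : ∀ x ∈ s, x ∈ A := fun x hx =>
    hTA _ (Finset.mem_insert_of_mem (Finset.mem_union_left _ hx))
  have hdA : ∀ x ∈ s, ∀ y ∈ s, (x - y)⁻¹ ∈ A := fun x hx y hy =>
    hTA _ (Finset.mem_insert_of_mem (Finset.mem_union_right _ (Finset.mem_union_left _
      (Finset.mem_image.2 ⟨(x, y), Finset.mem_product.2 ⟨hx, hy⟩, rfl⟩))))
  have hzA : ∀ x ∈ s, (algebraMap ℂ L z₀ - x)⁻¹ ∈ A := fun x hx =>
    hTA _ (Finset.mem_insert_of_mem (Finset.mem_union_right _ (Finset.mem_union_right _
      (Finset.mem_image.2 ⟨x, hx, rfl⟩))))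
  have hAft : Algebra.FiniteType R A := A.fg_iff_finiteType.1 (Subalgebra.fg_adjoin_finset T)
  have hAft' : Algebra.FiniteType ℂ A := Algebra.FiniteType.trans (S := R) inferInstance hAft
  let ψ : R →ₐ[ℂ] A := IsScalarTower.toAlgHom ℂ R A
  have hψ : Function.Injective ψ := by
    intro x y hxy
    apply hRL
    have := congrArg (algebraMap A L) hxy
    exact this
  let e : Fin s.card ≃ s := s.equivFin.symm
  let a : Fin s.card → A := fun i => ⟨(e i : L), hsA _ (e i).2⟩
  have hunit : ∀ (x : A) (y : L), y ∈ A → (x : L) * y = 1 → IsUnit x := by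
    intro x y hy hxy
    exact IsUnit.of_mul_eq_one ⟨y, hy⟩ (Subtype.ext hxy)
  refine ⟨A, inferInstance, inferInstance, inferInstance, hAft', ψ, hψ, s.card, a, ?_, ?_, ?_⟩
  · intro i j hij
    have hne : ((e i : L) - (e j : L)) ≠ 0 := by
      rw [sub_ne_zero]
      intro h
      exact hij (e.injective (Subtype.ext h))
    exact hunit _ _ (hdA _ (e i).2 _ (e j).2) (mul_inv_cancel₀ hne)
  · intro i
    have hne : algebraMap ℂ L z₀ - (e i : L) ≠ 0 := by
      rw [sub_ne_zero]
      intro h
      have h1 : (e i : L) ∈ QL.roots := Multiset.mem_toFinset.1 (e i).2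
      rw [mem_roots hQL0, ← h, IsRoot.def, eval_map, IsScalarTower.algebraMap_apply ℂ R L, eval₂_at_apply] at h1
      exact hQ (hRL (by rw [map_zero]; exact h1))
    exact hunit _ _ (hzA _ (e i).2) (mul_inv_cancel₀ hne)
  · intro t z hz
    -- the factorization
    have hfac : Q.map (algebraMap R A) = C (algebraMap R A Q.leadingCoeff) *
        ∏ i : Fin s.card, (X - C (a i)) ^ (QL.roots.count ((e i : s) : L)) := by
      apply Polynomial.map_injective (algebraMap A L) Subtype.val_injective
      rw [Polynomial.map_map, Polynomial.map_mul, Polynomial.map_prod, map_C, ← IsScalarTower.algebraMap_apply R A L]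
      have h1 : (Polynomial.Splits QL) := IsAlgClosed.splits QL
      have h2 : QL = C QL.leadingCoeff * (QL.roots.map (X - C ·)).prod := h1.eq_prod_roots
      have h3 : QL.leadingCoeff = cL := Polynomial.leadingCoeff_map_of_injective hRL Q
      have h4 : Q.map ((algebraMap A L).comp (algebraMap R A)) = QL := by
        rw [← IsScalarTower.algebraMap_eq R A L]
      have h5 : ∏ m ∈ QL.roots.toFinset, (X - C m) ^ QL.roots.count m =
          ∏ m : s, (X - C (m : L)) ^ QL.roots.count (m : L) :=
        (Finset.prod_coe_sort s (fun m => (X - C m) ^ QL.roots.count m)).symm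
      rw [Finset.prod_multiset_map_count, h5, ← e.prod_comp, h3] at h2
      rw [h4]
      refine h2.trans ?_
      congr 1
      refine Finset.prod_congr rfl fun i _ => ?_
      rw [Polynomial.map_pow, Polynomial.map_sub, map_X, map_C]
      rfl
    have hcu : IsUnit (algebraMap R A Q.leadingCoeff) := hunit _ _ hcA (mul_inv_cancel₀ hcL)
    have h6 : Q.map ((t.comp ψ : R →ₐ[ℂ] ℂ) : R →+* ℂ) = (Q.map (algebraMap R A)).map (t : A →+* ℂ) := by
      rw [Polynomial.map_map]
      rfl
    rw [h6, hfac, Polynomial.map_mul, Polynomial.map_prod, map_C, eval_mul, eval_C, eval_prod, mul_eq_zero] at hz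
    rcases hz with hz | hz
    · exact absurd hz (hcu.map t).ne_zero
    · rw [Finset.prod_eq_zero_iff] at hz
      obtain ⟨i, -, hi⟩ := hz
      refine ⟨i, ?_⟩
      rw [Polynomial.map_pow, Polynomial.map_sub, map_X, map_C, eval_pow] at hi
      have h8 := (pow_eq_zero_iff (Multiset.count_pos.2 (Multiset.mem_toFinset.1 (e i).2)).ne').1 hi
      rw [eval_sub, eval_X, eval_C, sub_eq_zero] at h8
      exact h8

end Groth.Agent.An.H170.Split
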