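import Mathlib.FieldTheory.PrimitiveElement
import Mathlib.FieldTheory.Minpoly.IsIntegrallyClosed
import Mathlib.RingTheory.Algebraic.Integral
import Mathlib.RingTheory.Localization.Integral
import Mathlib.FieldTheory.Perfect

/-!
# Spreading out a finite extension of a fraction field (for `[FAM]`, pieces (SPLIT) and (MULTI))
-/

set_option autoImplicit false

namespace Groth.Agent.An.H170.Spread

universe u v w

open Polynomial

section Clear

variable {A : Type u} [CommRing A] [IsDomain A]
variable {K : Type v} [Field K] [Algebra A K] [IsFractionRing A K]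

theorem exists_clear (h : K[X]) :
    ∃ (g : A) (h' : A[X]), g ≠ 0 ∧ h'.map (algebraMap A K) = C (algebraMap A K g) * h := by
  obtain ⟨b, hbm, hb⟩ := IsLocalization.integerNormalization_spec (nonZeroDivisors A) h
  refine ⟨b, IsLocalization.integerNormalization (nonZeroDivisors A) h, nonZeroDivisors.ne_zero hbm, ?_⟩
  rw [hb, ← Polynomial.smul_eq_C_mul, algebraMap_smul]

end Clear

variable {A : Type u} [CommRing A] [IsDomain A] [IsIntegrallyClosed A] [CharZero A]
variable (K : Type v) [Field K] [Algebra A K] [IsFractionRing A K]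
variable (L : Type w) [Field L] [Algebra A L] [Algebra K L] [IsScalarTower A K L] [FiniteDimensional K L]

include K in
/-- A finite extension `L` of the fraction field of `A` (normal, of characteristic zero) is generated by an element `θ`
integral over `A`, with minimal polynomial `f`; any finite set of elements of `L` lies in `A_g[θ]`, and `(f, f')` is
comaximal over `A_g`. -/
theorem exists_spread (s : Finset L) :
    ∃ (θ : L) (f : A[X]) (g : A), f.Monic ∧ aeval θ f = 0 ∧ Prime f ∧
      (∀ p : A[X], aeval θ p = 0 → f ∣ p) ∧ g ≠ 0 ∧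
      (∃ a b : A[X], a * f + b * derivative f = C g) ∧
      (∀ y ∈ s, ∃ h : A[X], algebraMap A L g * y = aeval θ h) := by
  classical
  have hAK : Function.Injective (algebraMap A K) := IsFractionRing.injective A K
  have hKL : Function.Injective (algebraMap K L) := (algebraMap K L).injective
  have hAL : Function.Injective (algebraMap A L) := by
    rw [IsScalarTower.algebraMap_eq A K L]
    exact hKL.comp hAK
  have : CharZero K := charZero_of_injective_algebraMap hAK
  have : FaithfulSMul A L := (faithfulSMul_iff_algebraMap_injective A L).2 hAL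
  obtain ⟨θ₀, hθ₀⟩ := Field.exists_primitive_element K L
  have halg : IsAlgebraic A θ₀ := (IsFractionRing.isAlgebraic_iff A K L).2 (Algebra.IsAlgebraic.isAlgebraic θ₀)
  obtain ⟨c, hc0, hint⟩ := halg.exists_integral_multiple
  set θ : L := c • θ₀ with hθ
  have hcL : algebraMap A L c ≠ 0 := fun h => hc0 (hAL (by rw [h, map_zero]))
  have htop : Algebra.adjoin K {θ} = ⊤ := by
    have h1 : IntermediateField.adjoin K {θ} = ⊤ := by
      rw [eq_top_iff, ← hθ₀, IntermediateField.adjoin_simple_le_iff]
      have h2 : θ ∈ IntermediateField.adjoin K {θ} := IntermediateField.mem_adjoin_simple_self K θ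
      have h3 : algebraMap K L (algebraMap A K c) ∈ IntermediateField.adjoin K {θ} :=
        IntermediateField.algebraMap_mem _ _
      have h4 : θ₀ = (algebraMap K L (algebraMap A K c))⁻¹ * θ := by
        rw [hθ, Algebra.smul_def, ← IsScalarTower.algebraMap_apply, ← mul_assoc, inv_mul_cancel₀ hcL, one_mul]
      rw [h4]
      exact mul_mem (inv_mem h3) h2
    rw [← IntermediateField.adjoin_simple_toSubalgebra_of_isAlgebraic (Algebra.IsAlgebraic.isAlgebraic θ), h1]
    rfl
  set f : A[X] := minpoly A θ with hf
  have hfm : f.Monic := minpoly.monic hint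
  have hfK : minpoly K θ = f.map (algebraMap A K) := minpoly.isIntegrallyClosed_eq_field_fractions' K hint
  -- separability
  have hsep : (f.map (algebraMap A K)).Separable := by
    rw [← hfK]
    exact (minpoly.irreducible (hint.tower_top)).separable
  obtain ⟨a₀, b₀, hab⟩ := hsep
  obtain ⟨ga, a, hga, ha⟩ := exists_clear (A := A) a₀
  obtain ⟨gb, b, hgb, hb⟩ := exists_clear (A := A) b₀
  have hsep' : (C gb * a) * f + (C ga * b) * derivative f = C (ga * gb) := by
    apply Polynomial.map_injective _ hAK
    rw [Polynomial.map_add, Polynomial.map_mul, Polynomial.map_mul, Polynomial.map_mul, Polynomial.map_mul, ha, hb,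
      ← Polynomial.derivative_map, Polynomial.map_C, Polynomial.map_C, Polynomial.map_C, map_mul, C_mul]
    linear_combination (C (algebraMap A K ga) * C (algebraMap A K gb)) * hab
  -- elements
  have hel : ∀ y : L, ∃ (gy : A) (h : A[X]), gy ≠ 0 ∧ algebraMap A L gy * y = aeval θ h := by
    intro y
    have hy : y ∈ Algebra.adjoin K {θ} := by rw [htop]; trivial
    rw [Algebra.adjoin_singleton_eq_range_aeval] at hy
    obtain ⟨h₀, hh₀⟩ := hy
    obtain ⟨gy, h, hgy, hh⟩ := exists_clear (A := A) h₀
    refine ⟨gy, h, hgy, ?_⟩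
    rw [← Polynomial.aeval_map_algebraMap K θ h, hh, map_mul, aeval_C, ← IsScalarTower.algebraMap_apply]
    congr 1
    exact hh₀.symm
  choose gy hy hgy hhy using hel
  refine ⟨θ, f, (ga * gb) * ∏ y ∈ s, gy y, hfm, minpoly.aeval A θ, minpoly.prime_of_isIntegrallyClosed hint,
    fun p hp => minpoly.isIntegrallyClosed_dvd hint hp,
    mul_ne_zero (mul_ne_zero hga hgb) (Finset.prod_ne_zero_iff.2 fun y _ => hgy y), ?_, ?_⟩
  · refine ⟨C (∏ y ∈ s, gy y) * (C gb * a), C (∏ y ∈ s, gy y) * (C ga * b), ?_⟩
    rw [C_mul]
    linear_combination C (∏ y ∈ s, gy y) * hsep'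
  · intro y hys
    refine ⟨C (ga * gb * ∏ z ∈ s.erase y, gy z) * hy y, ?_⟩
    rw [map_mul (aeval θ), aeval_C, ← hhy y, ← Finset.mul_prod_erase s gy hys]
    simp only [map_mul]
    ring

end Groth.Agent.An.H170.Spread
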